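import Cfsg.Agent.H710.R4.Sph_m3
import Cfsg.Agent.H996.Eight.KqT
import Cfsg.Agent.Prune
set_option linter.all false

section
prune_inst 0x7f00000000000000000000000000000000000000000000000000000000000000000000000000000000000000000000000000000000000000000000000000000000000000000000000000000000000000003fffffffffffffffffffffffffffbeffbdffffffff

-- part: H996/Eight/TabTwEa_mg
section
set_option linter.all false

-- part: H996/Eight/TabTwEa
section
/-!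
# The table of the spherical machine: `²E₆`, node `0` (helper996, for S4899; made by a program)

24 states, 5 classes; 4 certificates.
-/

set_option autoImplicit false
set_option maxRecDepth 20000

namespace Cfsg.Agent.H996.Eight.TabTwEa

open Cfsg.Agent.H967.Sph Cfsg.Agent.H64.Dl.Sph Cfsg.Agent.H996.Eight.Cert Cfsg.Agent.H996.Eight.En

/-- the Cartan matrix -/
def A (i k : Fin 4) : ℤ := (([[2, -1, 0, 0], [-1, 2, -1, 0], [0, -2, 2, -1], [0, 0, -1, 2]] : List (List ℤ)).getD i []).getD k 0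

/-- the encoded table -/
def enc : Enc 4 24 5 where
  j := 0
  V := 21013801940199010778206505136810582839326631966205552136568781602941527279857127289877008011566094265508635254163593
  S := 219102856552418326397026619362445635411598576327450320405242928237011927487343320270139420186610669813390253723825317771858664716782433645530079029259169855023969409213513765352233141711939252914395385814974586870772973141136269757079122756008716649981228314218956992630909198079648333825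
  C := 170173342163579331375162832916087840
  P := 37995022776389900215743669652279557517133827294378444095787674230587392
  Q := 352029734108865814464635136
  CP := 1765157046060728488021291324189876436589227970426464577155146875928575999
  CQ := 352029734180923408502563072
  R := 25302732375040
  W := 516841254838192504595240287612430520127795394459493073152

/-- the table -/
def tab : Tab A 0 24 5 :=
  enc.tab A (by decide +kernel) (Cfsg.Agent.H996.Eight.Kq.t1 44 (by decide +kernel)) (Cfsg.Agent.H996.Eight.Kq.act_of (by decide +kernel)) (Cfsg.Agent.H996.Eight.Kq.t3 (by decide +kernel)) (by decide +kernel)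
    (Cfsg.Agent.H996.Eight.Kq.t5 (by decide +kernel)) (Cfsg.Agent.H996.Eight.Kq.t6 (r := fun a => enc.crep (enc.cls a)) (by decide +kernel))

/-- the exponents of the parameters -/
def e (i : Fin 4) : ℕ := ([1, 1, 2, 2] : List ℕ).getD i 0

def matL : List (List (List ℤ)) := [[[], [0, 1], [], [], []], [[0, 1], [0, -1, 1, 1, 0, 1, 0, 1], [0, 0, 0, 0, 0, 0, 1, 0, 1, 0, 1], [0, 0, 0, 0, 0, 0, 0, 0, 0, 0, 0, 1], []], [[], [0, 0, 0, 0, 0, 0, 1, 0, 1, 0, 1], [0, 0, 0, 0, 0, 0, -1, 1, -1, 1, -1, 1], [0, 0, 0, 0, 0, 0, 0, 0, 0, 0, 0, 0, 1, 0, 1, 0, 1], []], [[], [0, 0, 0, 0, 0, 0, 0, 0, 0, 0, 0, 1], [0, 0, 0, 0, 0, 0, 0, 0, 0, 0, 0, 0, 1, 0, 1, 0, 1], [0, 0, 0, 0, 0, 0, 0, 0, 0, 0, 0, -1, 0, 1, -1, 1, 0, 1, 1, 0, 1], [0, 0, 0, 0, 0, 0, 0, 0, 0, 0, 0, 0, 0, 0, 0, 0, 0, 0, 0, 0, 0, 1]], [[], [], [], [0, 0, 0, 0, 0, 0, 0, 0, 0, 0, 0, 0, 0, 0, 0, 0, 0, 0, 0, 0, 0, 1], [0, 0, 0, 0, 0, 0, 0, 0, 0, 0, 0, 0,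 0, 0, 0, 0, 0, 0, 0, 0, 0, -1, 1]]]

def bbL : List (List (List ℤ)) := [[[], [0, 1, 1, 0, 1, 1, 1, 1, 0, 1, 1], [], [], []], [[1], [-1, 1, 1, 0, 1, 0, 1], [0, 0, 0, 0, 0, 1, 0, 1, 0, 1], [0, 0, 0, 0, 0, 0, 0, 0, 0, 0, 1], []], [[], [1, 1, 0, 1, 1], [-1, 0, 1, -1, 0, 1], [0, 0, 0, 0, 0, 0, 1, 1, 0, 1, 1], []], [[], [1], [0, 1, 0, 1, 0, 1], [-1, 0, 1, -1, 1, 0, 1, 1, 0, 1], [0, 0, 0, 0, 0, 0, 0, 0, 0, 0, 1]], [[], [], [], [1, 1, 0, 1, 1, 1, 1, 0, 1, 1], [-1, 0, 1, -1, 0, 0, 0, 1, -1, 0, 1]]]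

def kL : List (List ℤ) := [[1], [0, 1, 1, 0, 1, 1, 1, 1, 0, 1, 1], [0, 0, 0, 0, 0, 0, 1, 0, 1, 0, 1, 1, 0, 1, 0, 1], [0, 0, 0, 0, 0, 0, 0, 0, 0, 0, 0, 1, 1, 0, 1, 1, 1, 1, 0, 1, 1], [0, 0, 0, 0, 0, 0, 0, 0, 0, 0, 0, 0, 0, 0, 0, 0, 0, 0, 0, 0, 0, 1]]

/-- the data -/
def data : Data A 0 24 5 where
  t := tab
  e := e
  wl := enc.wl
  mat c c' := (matL.getD c []).getD c' []
  kk c := kL.getD c []
  ff := [1, 1, 0, 1, 1, 1, 1, 0, 1, 1]
  bb c c' := (bbL.getD c []).getD c' []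
  chkM := by (delta Cfsg.Agent.H996.Eight.Cert.ChkM Cfsg.Agent.H996.Eight.Cert.ctr; simp only [Cfsg.Agent.H996.Eight.Kq.pEq_eq]; decide +kernel)
  chkK := by (delta Cfsg.Agent.H64.Dl.Sph.ChkK; simp only [Cfsg.Agent.H996.Eight.Kq.pEq_eq]; decide +kernel)
  chkF := by decide +kernel
  chkP := by (simp only [Cfsg.Agent.H996.Eight.Kq.pPos_eq]; decide +kernel)
  chkB := by (simp only [Cfsg.Agent.H996.Eight.Kq.pEq_eq]; decide +kernel)
  wo := by decide +kernel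
  ws := by decide +kernel

/-- `1*q^1*P8*P18 / 1` (`Pn` the cyclotomic polynomials) -/
def c1 : Crt 5 where
  th := [-1, 0, 0, -1, 0, -1, 0, 0, -1]
  nu c := ([[0, 0, 0, 0, 0, 0, 1, 1], [0, 0, 0, 0, 0, -1], [0, 0, 0, 1, 1], [0, 0, -1], [1, 1]] : List (List ℤ)).getD c []
  steps := [(3, [(0, [1, 0, 1]), (2, [0, -1, -1, -1, 0, 0, -1, -1, -1]), (3, [0, 0, 1, 1, 0, 1, 1, 1, 1, 0, 1, 1]), (4, [0, 0, 0, 0, 0, 0, 0, 0, 0, 0, -1, -1])]), (2, [(0, [-1]), (2, [0, 1, 0, 0, 0, 0, 1])]), (4, [(4, [1])]), (1, [(0, [1])])]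
  dn := [0, 1, 0, 0, -1, 1, 0, 1, -1, 0, 0, 1]
  den := 1

theorem ok1 : c1.ok (data.t.cls data.t.o) data.bb data.kk := by (delta Cfsg.Agent.H996.Eight.Cert.Crt.ok; simp only [Cfsg.Agent.H996.Eight.Kq.pEq_eq, Cfsg.Agent.H996.Eight.Kq.pZero_eq, Cfsg.Agent.H996.Eight.Kq.pPos_eq, Cfsg.Agent.H996.Eight.Kq.chkU_eq]; decide +kernel)

theorem dvd1 : pDvd c1.den c1.dn := by decide +kernel

/-- `1*q^2*P4*P8*P10*P12 / 1` (`Pn` the cyclotomic polynomials) -/
def c2 : Crt 5 where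
  th := [-1, 0, 1, 0, 1, 1, 1, 1]
  nu c := ([[0, 0, 0, 0, 0, 0, 0, 0, 0, 1, 0, 0, 0, 0, 1], [0, 0, 0, 0, 0, 0, 0, 0, -1, 1, 0, 1], [0, 0, 0, 0, 0, -1, 0, 0, 0, 1], [0, 0, 0, -1, 0, -1, 1], [-1, 0, 0, 0, 0, -1]] : List (List ℤ)).getD c []
  steps := [(3, [(0, [1, 1, 0, 1, -1, 1, -1]), (1, [-1, -1, 0, -1, -1, -1, -1, 0, -1, -1]), (2, [0, 0, -1, 0, -1, 0, -1, -1, 0, -1, 0, -1])]), (2, [(0, [-1]), (2, [0, 1, 0, 0, 0, 0, 1])]), (4, [(4, [1])]), (1, [(0, [1])])]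
  dn := [0, 0, 1, -1, 1, -1, 2, -1, 2, -2, 2, -1, 2, -1, 1, -1, 1]
  den := 1

theorem ok2 : c2.ok (data.t.cls data.t.o) data.bb data.kk := by (delta Cfsg.Agent.H996.Eight.Cert.Crt.ok; simp only [Cfsg.Agent.H996.Eight.Kq.pEq_eq, Cfsg.Agent.H996.Eight.Kq.pZero_eq, Cfsg.Agent.H996.Eight.Kq.pPos_eq, Cfsg.Agent.H996.Eight.Kq.chkU_eq]; decide +kernel)

theorem dvd2 : pDvd c2.den c2.dn := by decide +kernel

/-- `1*q^3*P2^4*P6^2*P10*P18 / 2` (`Pn` the cyclotomic polynomials) -/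
def c3 : Crt 5 where
  th := [-1, 0, 1, -1, 0, -1]
  nu c := ([[0, 0, 0, 0, 0, 0, 0, 0, 0, 0, 0, 0, 1, 1, 0, 1, 1, 1, 1, 0, 1, 1], [0, 0, 0, 0, 0, 0, 0, 0, 0, 0, 0, -1, 0, 1, -1, 0, -1], [0, 0, 0, 0, 0, 0, 0, 0, -1, 0, 1, -1, 0, 1], [0, 0, 0, 0, 0, 1, 0, 1, -1, 0, 1], [-1, -1, 0, -1, -1, -1, -1, 0, -1, -1]] : List (List ℤ)).getD c []
  steps := [(3, [(0, [1, -1, 1, 0, 0, 0, -1, 1, 1]), (1, [0, 2, 2, 0, 2, 2, 2, 2, 0, 2, 2]), (2, [0, -1, -1, -1, -2, -2, -3, -2, -2, -3, -2, -2, -1, -1, -1])]), (2, [(0, [-1]), (2, [0, 1, 0, 0, 0, 0, 1])]), (4, [(4, [1])]), (1, [(0, [1])])]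
  dn := [0, 0, 0, 1, 1, 0, 1, 1, 1, 1, 0, 1, 2, 1, 0, 1, 1, 1, 1, 0, 1, 1]
  den := 2

theorem ok3 : c3.ok (data.t.cls data.t.o) data.bb data.kk := by (delta Cfsg.Agent.H996.Eight.Cert.Crt.ok; simp only [Cfsg.Agent.H996.Eight.Kq.pEq_eq, Cfsg.Agent.H996.Eight.Kq.pZero_eq, Cfsg.Agent.H996.Eight.Kq.pPos_eq, Cfsg.Agent.H996.Eight.Kq.chkU_eq]; decide +kernel)

theorem dvd3 : pDvd c3.den c3.dn := by decide +kernel

/-- `1*q^3*P3^2*P8*P10*P18 / 2` (`Pn` the cyclotomic polynomials) -/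
def c4 : Crt 5 where
  th := [-1, 0, 1, -1, 0, 1]
  nu c := ([[0, 0, 0, 0, 0, 0, 0, 0, 0, 0, 0, 0, 1, 1, 1, 0, 0, 1, 1, 1], [0, 0, 0, 0, 0, 0, 0, 0, 0, 0, 0, -1, 0, 0, 1], [0, 0, 0, 0, 0, 0, 0, 0, -1, 0, 0, -1], [0, 0, 0, 0, 0, 1, 0, 0, -1], [1, 1, 1, 0, 0, 1, 1, 1]] : List (List ℤ)).getD c []
  steps := [(2, [(0, [-1, 1, -2, 2, -1]), (1, [1, 0, 0, 1, 0, 1, 0, 0, 1]), (2, [0, 0, 0, 0, -1, 1, -1, 1, -1])]), (4, [(0, [1]), (2, [0, -1, 0, 0, 0, 0, -1]), (4, [0, 0, 0, 0, 0, 0, 0, 1])]), (3, [(0, [-1]), (2, [0, 1, 0, 0, 0, 0, 1])]), (1, [(0, [1])])]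
  dn := [0, 0, 0, 1, 1, 2, -1, 1, -1, 5, 0, 3, -4, 3, 0, 5, -1, 1, -1, 2, 1, 1]
  den := 2

theorem ok4 : c4.ok (data.t.cls data.t.o) data.bb data.kk := by (delta Cfsg.Agent.H996.Eight.Cert.Crt.ok; simp only [Cfsg.Agent.H996.Eight.Kq.pEq_eq, Cfsg.Agent.H996.Eight.Kq.pZero_eq, Cfsg.Agent.H996.Eight.Kq.pPos_eq, Cfsg.Agent.H996.Eight.Kq.chkU_eq]; decide +kernel)

theorem dvd4 : pDvd c4.den c4.dn := by decide +kernel

end Cfsg.Agent.H996.Eight.TabTwEa
end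

-- part: H996/Eight/TabTwEb
section
/-!
# The table of the spherical machine: `²E₆`, node `3` (helper996, for S4899; made by a program)

24 states, 5 classes; 4 certificates.
-/

set_option autoImplicit false
set_option maxRecDepth 20000

namespace Cfsg.Agent.H996.Eight.TabTwEb

open Cfsg.Agent.H967.Sph Cfsg.Agent.H64.Dl.Sph Cfsg.Agent.H996.Eight.Cert Cfsg.Agent.H996.Eight.En

/-- the Cartan matrix -/
def A (i k : Fin 4) : ℤ := (([[2, -1, 0, 0], [-1, 2, -1, 0], [0, -2, 2, -1], [0, 0, -1, 2]] : List (List ℤ)).getD i []).getD k 0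

/-- the encoded table -/
def enc : Enc 4 24 5 where
  j := 3
  V := 18551813145639164846928938438622731683145322729980255479332629328569643779114952504221703243131825233855364089813128
  S := 209585948347032473388732970014326661067019478864286225440091573055080811631635641918521840323481389960760558027924482972446772979876024392460794981171878097421696060824418990709289157128957192767635028664153743602587170420898821481453121671536296703818781583818173854995363941488944742400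
  C := 170173342163579295669533205362410528
  P := 37995022776389900215743671079527250221795632900091847944390629043208192
  Q := 15496162291301456167483478576
  CP := 1765157046060728488021291325614354216206943458759285923392767603727400959
  CQ := 640881819876013052428030464
  R := 25301659681792
  W := 590592979821248420990642954591299027873614546136750883328

/-- the table -/
def tab : Tab A 3 24 5 :=
  enc.tab A (by decide +kernel) (Cfsg.Agent.H996.Eight.Kq.t1 57 (by decide +kernel)) (Cfsg.Agent.H996.Eight.Kq.act_of (by decide +kernel)) (Cfsg.Agent.H996.Eight.Kq.t3 (by decide +kernel)) (by decide +kernel)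
    (Cfsg.Agent.H996.Eight.Kq.t5 (by decide +kernel)) (Cfsg.Agent.H996.Eight.Kq.t6 (r := fun a => enc.crep (enc.cls a)) (by decide +kernel))

/-- the exponents of the parameters -/
def e (i : Fin 4) : ℕ := ([1, 1, 2, 2] : List ℕ).getD i 0

def matL : List (List (List ℤ)) := [[[], [0, 0, 1], [], [], []], [[0, 0, 1], [0, 0, -1, 0, 1, 0, 1, 1, 1], [0, 0, 0, 0, 0, 0, 0, 0, 0, 1, 1, 1], [0, 0, 0, 0, 0, 0, 0, 0, 0, 0, 0, 0, 0, 1], []], [[], [0, 0, 0, 0, 0, 0, 0, 0, 0, 1, 1, 1], [0, 0, 0, 0, 0, 0, 0, 0, 0, -1, -1, 0, 1, 1], [0, 0, 0, 0, 0, 0, 0, 0, 0, 0, 0, 0, 0, 0, 0, 1, 1, 1], []], [[], [0, 0, 0, 0, 0, 0, 0, 0, 0, 0, 0, 0, 0, 1], [0, 0, 0, 0, 0, 0, 0, 0, 0, 0, 0, 0, 0, 0, 0, 1, 1, 1], [0, 0, 0, 0, 0, 0, 0, 0, 0, 0, 0, 0, 0, -1, 0, 0, -1, 0, 1, 1, 1, 1, 1], [0, 0, 0, 0, 0, 0, 0, 0, 0, 0, 0, 0, 0, 0, 0, 0, 0, 0, 0, 0, 0, 0, 0, 0, 1]], [[], [], [], [0, 0, 0, 0, 0, 0, 0, 0, 0, 0, 0, 0, 0, 0, 0, 0, 0,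 0, 0, 0, 0, 0, 0, 0, 1], [0, 0, 0, 0, 0, 0, 0, 0, 0, 0, 0, 0, 0, 0, 0, 0, 0, 0, 0, 0, 0, 0, 0, 0, -1, 0, 1]]]

def bbL : List (List (List ℤ)) := [[[], [0, 0, 1, 0, 1, 1, 1, 1, 1, 1, 0, 1], [], [], []], [[1], [-1, 0, 1, 0, 1, 1, 1], [0, 0, 0, 0, 0, 0, 0, 1, 1, 1], [0, 0, 0, 0, 0, 0, 0, 0, 0, 0, 0, 1], []], [[], [1, 0, 1, 1, 0, 1], [-1, 0, 0, -1, 1, 0, 0, 1], [0, 0, 0, 0, 0, 0, 1, 0, 1, 1, 0, 1], []], [[], [1], [0, 0, 1, 1, 1], [-1, 0, 0, -1, 0, 1, 1, 1, 1, 1], [0, 0, 0, 0, 0, 0, 0, 0, 0, 0, 0, 1]], [[], [], [], [1, 0, 1, 1, 1, 1, 1, 1, 0, 1], [-1, 0, 0, -1, 0, 0, 0, 0, 1, 0, 0, 1]]]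

def kL : List (List ℤ) := [[1], [0, 0, 1, 0, 1, 1, 1, 1, 1, 1, 0, 1], [0, 0, 0, 0, 0, 0, 0, 0, 0, 1, 1, 1, 0, 1, 1, 1], [0, 0, 0, 0, 0, 0, 0, 0, 0, 0, 0, 0, 0, 1, 0, 1, 1, 1, 1, 1, 1, 0, 1], [0, 0, 0, 0, 0, 0, 0, 0, 0, 0, 0, 0, 0, 0, 0, 0, 0, 0, 0, 0, 0, 0, 0, 0, 1]]

/-- the data -/
def data : Data A 3 24 5 where
  t := tab
  e := e
  wl := enc.wl
  mat c c' := (matL.getD c []).getD c' []
  kk c := kL.getD c []
  ff := [1, 0, 1, 1, 1, 1, 1, 1, 0, 1]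
  bb c c' := (bbL.getD c []).getD c' []
  chkM := by (delta Cfsg.Agent.H996.Eight.Cert.ChkM Cfsg.Agent.H996.Eight.Cert.ctr; simp only [Cfsg.Agent.H996.Eight.Kq.pEq_eq]; decide +kernel)
  chkK := by (delta Cfsg.Agent.H64.Dl.Sph.ChkK; simp only [Cfsg.Agent.H996.Eight.Kq.pEq_eq]; decide +kernel)
  chkF := by decide +kernel
  chkP := by (simp only [Cfsg.Agent.H996.Eight.Kq.pPos_eq]; decide +kernel)
  chkB := by (simp only [Cfsg.Agent.H996.Eight.Kq.pEq_eq]; decide +kernel)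
  wo := by decide +kernel
  ws := by decide +kernel

/-- `1*q^2*P4*P8*P10*P12 / 1` (`Pn` the cyclotomic polynomials) -/
def c1 : Crt 5 where
  th := [-1, 0, 0, 0, 1, 1, 1, 1, 1]
  nu c := ([[0, 0, 0, 0, 0, 0, 0, 0, 0, 1, 0, 0, 0, 1], [0, 0, 0, 0, 0, 0, 0, -1, 0, 1, 1], [0, 0, 0, 0, -1, 0, 0, 0, 0, 1], [0, 0, 0, -1, -1, 0, 1], [-1, 0, 0, 0, -1]] : List (List ℤ)).getD c []
  steps := [(3, [(0, [1, 0, 1, 1, 1, -1, -1]), (1, [-1, 0, -1, -1, -1, -1, -1, -1, 0, -1]), (2, [0, 0, 0, 0, -1, -1, -1, 0, -1, -1, -1])]), (2, [(0, [-1]), (2, [0, 0, 1, 0, 0, 0, 1])]), (4, [(4, [1])]), (1, [(0, [1])])]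
  dn := [0, 0, 1, -1, 1, -1, 2, -1, 2, -2, 2, -1, 2, -1, 1, -1, 1]
  den := 1

theorem ok1 : c1.ok (data.t.cls data.t.o) data.bb data.kk := by (delta Cfsg.Agent.H996.Eight.Cert.Crt.ok; simp only [Cfsg.Agent.H996.Eight.Kq.pEq_eq, Cfsg.Agent.H996.Eight.Kq.pZero_eq, Cfsg.Agent.H996.Eight.Kq.pPos_eq, Cfsg.Agent.H996.Eight.Kq.chkU_eq]; decide +kernel)

theorem dvd1 : pDvd c1.den c1.dn := by decide +kernel

/-- `1*q^3*P4^2*P10*P12*P18 / 2` (`Pn` the cyclotomic polynomials) -/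
def c2 : Crt 5 where
  th := [-1, 0, 0, -1, -1, 0, 0, -1]
  nu c := ([[0, 0, 0, 0, 0, 0, 0, 0, 0, 0, 0, 0, 1, 0, 1], [0, 0, 0, 0, 0, 0, 0, 0, 0, 0, -1], [0, 0, 0, 0, 0, 0, 1, 0, 1], [0, 0, 0, 0, -1], [1, 0, 1]] : List (List ℤ)).getD c []
  steps := [(3, [(0, [-2, -1, -3, 0, -1, -1]), (1, [2, 0, 2, 2, 2, 2, 2, 2, 0, 2]), (2, [0, 0, 0, -1, -1, -2, -1, -2, -1, -2, -1, -1])]), (2, [(0, [-1]), (2, [0, 0, 1, 0, 0, 0, 1])]), (4, [(4, [1])]), (1, [(0, [1])])]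
  dn := [0, 0, 0, 1, -1, 2, -3, 3, -3, 5, -4, 5, -6, 5, -4, 5, -3, 3, -3, 2, -1, 1]
  den := 2

theorem ok2 : c2.ok (data.t.cls data.t.o) data.bb data.kk := by (delta Cfsg.Agent.H996.Eight.Cert.Crt.ok; simp only [Cfsg.Agent.H996.Eight.Kq.pEq_eq, Cfsg.Agent.H996.Eight.Kq.pZero_eq, Cfsg.Agent.H996.Eight.Kq.pPos_eq, Cfsg.Agent.H996.Eight.Kq.chkU_eq]; decide +kernel)

theorem dvd2 : pDvd c2.den c2.dn := by decide +kernel

/-- `1*q^3*P3^2*P8*P10*P18 / 2` (`Pn` the cyclotomic polynomials) -/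
def c3 : Crt 5 where
  th := [-1, 0, 0, -1, 1, 0, 0, 1]
  nu c := ([[0, 0, 0, 0, 0, 0, 0, 0, 0, 0, 0, 0, 1, 1, 1, 0, 1, 1, 1], [0, 0, 0, 0, 0, 0, 0, 0, 0, 0, -1, -1, 0, 1, 1], [0, 0, 0, 0, 0, 0, 1, -1, -1, 0, -1, -1, 1], [0, 0, 0, 0, 1, 1, 0, -1, -1], [1, 1, 1, 0, 1, 1, 1]] : List (List ℤ)).getD c []
  steps := [(4, [(0, [1]), (2, [0, 0, -1, 0, 0, 0, -1]), (4, [0, 0, 0, 0, 0, 0, 0, 0, 1])]), (2, [(0, [-1, -1, 0, 0, -1, 1]), (1, [1, 0, 1, 1, 1, 1, 1, 1, 0, 1]), (2, [0, 0, 0, 0, 0, -1, 0, 0, 0, -1])]), (3, [(0, [-1]), (2, [0, 0, 1, 0, 0, 0, 1])]), (1, [(0, [1])])]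
  dn := [0, 0, 0, 1, 1, 2, -1, 1, -1, 5, 0, 3, -4, 3, 0, 5, -1, 1, -1, 2, 1, 1]
  den := 2

theorem ok3 : c3.ok (data.t.cls data.t.o) data.bb data.kk := by (delta Cfsg.Agent.H996.Eight.Cert.Crt.ok; simp only [Cfsg.Agent.H996.Eight.Kq.pEq_eq, Cfsg.Agent.H996.Eight.Kq.pZero_eq, Cfsg.Agent.H996.Eight.Kq.pPos_eq, Cfsg.Agent.H996.Eight.Kq.chkU_eq]; decide +kernel)

theorem dvd3 : pDvd c3.den c3.dn := by decide +kernel

/-- `1*q^6*P4^2*P8*P12*P18 / 1` (`Pn` the cyclotomic polynomials) -/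
def c4 : Crt 5 where
  th := [-1, 0, 0, -1]
  nu c := ([[0, 0, 0, 0, 0, 0, 0, 0, 0, 0, 0, 0, 0, 0, 0, 1, 0, 1, 0, 1, 0, 1], [0, 0, 0, 0, 0, 0, 0, 0, 0, 0, 0, 0, 0, -1], [0, 0, 0, 0, 0, 0, 0, 0, 0, 1, -1, 1, -1], [0, 0, 0, 0, 0, 0, 0, 0, 1], [-1, 0, -1, 0, -1, 0, -1]] : List (List ℤ)).getD c []
  steps := [(3, [(0, [1, 1, 1, 1, 1]), (2, [0, 0, -1, -1, -2, -1, -2, -1, -2, -1, -1]), (3, [0, 0, 0, 0, 1, 0, 1, 1, 1, 1, 1, 1, 0, 1]), (4, [0, 0, 0, 0, 0, 0, 0, -1, 0, -1, 0, -1, 0, -1])]), (2, [(0, [-1]), (2, [0, 0, 1, 0, 0, 0, 1])]), (4, [(4, [1])]), (1, [(0, [1])])]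
  dn := [0, 0, 0, 0, 0, 0, 1, 0, 1, -1, 1, -1, 3, -1, 2, -2, 2, -1, 3, -1, 1, -1, 1, 0, 1]
  den := 1

theorem ok4 : c4.ok (data.t.cls data.t.o) data.bb data.kk := by (delta Cfsg.Agent.H996.Eight.Cert.Crt.ok; simp only [Cfsg.Agent.H996.Eight.Kq.pEq_eq, Cfsg.Agent.H996.Eight.Kq.pZero_eq, Cfsg.Agent.H996.Eight.Kq.pPos_eq, Cfsg.Agent.H996.Eight.Kq.chkU_eq]; decide +kernel)

theorem dvd4 : pDvd c4.den c4.dn := by decide +kernel

end Cfsg.Agent.H996.Eight.TabTwEb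
end
end

-- part: H996/Eight/TabE6b
section
set_option linter.all false

/-!
# The table of the spherical machine: `E₆`, node `1` (helper996, for S4899; made by a program)

72 states, 5 classes; 4 certificates.
-/

set_option autoImplicit false
set_option maxRecDepth 20000

namespace Cfsg.Agent.H996.Eight.TabE6b

open Cfsg.Agent.H967.Sph Cfsg.Agent.H64.Dl.Sph Cfsg.Agent.H996.Eight.Cert Cfsg.Agent.H996.Eight.En

/-- the Cartan matrix -/
def A (i k : Fin 6) : ℤ := (([[2, 0, -1, 0, 0, 0], [0, 2, 0, -1, 0, 0], [-1, 0, 2, -1, 0, 0], [0, -1, -1, 2, -1, 0], [0, 0, 0, -1, 2, -1], [0, 0, 0, 0, -1, 2]] : List (List ℤ)).getD i []).getD k 0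

/-- the encoded table -/
def enc : Enc 6 72 5 where
  j := 1
  V := 8069199607088323073701618589328810743462378339721065157589568514289343590538525551965110730033908840796415381198643356689279944518961099398275410745028126964957169734572352980057544587898094170132056470388225929838536327865021748951098190034913734366892690262189200331437035928481524805076769448821543645771835569630691082685272332674234722825057411057412278609176051080320120504671243450167643779681943019948510062339299348527992668605916742364083394987247278711549659435559112603278411778973733791625916082171612268696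
  S := 1954177386636458965102592496718836387771301395648280379283728112760626492226555472844905909978319362264948829797678569553760714078464387820654973590149776466320595297578695784427499918664767861939148614134482774845615270837636270440345669844361960051002254379229350800259255308119293279512679043086075066276561983586656316945729268291629203331080745322424186306665625200999272553093610626591191740803566214721691160606870839219882674638659154593979821761343434407579906950666126356438590142874890823462618716394431576372438700738951901311190082348466483598782494482594444294348704701498604815719974133434801787872859307752511269558196786845276494904099098390660451020658905536580275901819545575196961201427482391137262633795356138939555990290087421434956803218766565844243821295874311233328307345080508903082163464261076333177019923232980244775479511164891849399188034586209692928273995201037618448120618478418752714989005915435358883772437338544587352097015094913625025917871815143430812505494269887804002466621062488873918069975583660252138438699047159674031438431251303428531381996751511900266474903127212706246012893776747317785213108061074984440635984039937204805625056097763176037007370828058050018351076668379789020892001227496620980223132609660698857163489066170258038185704121159702781363200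
  C := 300670270173666149133055037206217092511548100619349220985917846931159260311142376246370672387407227495941152
  P := 377409835290609543477080143980115430362385962630502342945743443464376060345388414445923393911978962277551900610770123603680890544711794650284297251369707642866872571304737429141262982116462421289109140861786635894784
  Q := 37427746012274268814166236166740720042563979634531621113477191993551957655261150454544
  CP := 5510629177806433692501989862545283237089021719129099204388679903243512025036208356779564888688720273168069026720005576147353567540767268829976401415077833573402575456621211324755164306329045347851345658311226538590207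
  CQ := 6346466822485746763901309594122524745583844480583687528428237112236256743424115614464
  R := 78108288877568
  W := 20364582383724511417571552886837073217864487366599589331899720318778378940764985211613192813602540300804107809174001072173046014347368990569484033472415478193200508791030016

/-- the table -/
def tab : Tab A 1 72 5 :=
  enc.tab A (by decide +kernel) (Cfsg.Agent.H996.Eight.Kq.t1 246 (by decide +kernel)) (Cfsg.Agent.H996.Eight.Kq.act_of (by decide +kernel)) (Cfsg.Agent.H996.Eight.Kq.t3 (by decide +kernel)) (by decide +kernel)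
    (Cfsg.Agent.H996.Eight.Kq.t5 (by decide +kernel)) (Cfsg.Agent.H996.Eight.Kq.t6 (r := fun a => enc.crep (enc.cls a)) (by decide +kernel))

/-- the exponents of the parameters -/
def e (i : Fin 6) : ℕ := ([1, 1, 1, 1, 1, 1] : List ℕ).getD i 0

def matL : List (List (List ℤ)) := [[[], [0, 1], [], [], []], [[0, 1], [0, -1, 1, 1, 2, 3, 2, 1], [0, 0, 0, 0, 0, 0, 1, 2, 3, 2, 1], [0, 0, 0, 0, 0, 0, 0, 0, 0, 0, 0, 1], []], [[], [0, 0, 0, 0, 0, 0, 1, 2, 3, 2, 1], [0, 0, 0, 0, 0, 0, -1, -1, -1, 1, 3, 5, 4, 2], [0, 0, 0, 0, 0, 0, 0, 0, 0, 0, 0, 0, 1, 2, 3, 2, 1], []], [[], [0, 0, 0, 0, 0, 0, 0, 0, 0, 0, 0, 1], [0, 0, 0, 0, 0, 0, 0, 0, 0, 0, 0, 0, 1, 2, 3, 2, 1], [0, 0, 0, 0, 0, 0, 0, 0, 0, 0, 0, -1, 0, -1, -1, 1, 2, 3, 3, 2, 1], [0, 0, 0, 0, 0, 0, 0, 0, 0, 0, 0, 0, 0, 0, 0, 0, 0, 0, 0, 0, 0, 1]], [[], [], [], [0, 0, 0, 0, 0, 0, 0, 0, 0, 0, 0, 0, 0, 0, 0, 0, 0, 0, 0, 0, 0, 1], [0, 0, 0, 0, 0, 0, 0, 0,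 0, 0, 0, 0, 0, 0, 0, 0, 0, 0, 0, 0, 0, -1, 1]]]

def bbL : List (List (List ℤ)) := [[[], [0, 1, 1, 2, 3, 3, 3, 3, 2, 1, 1], [], [], []], [[1], [-1, 1, 1, 2, 3, 2, 1], [0, 0, 0, 0, 0, 1, 2, 3, 2, 1], [0, 0, 0, 0, 0, 0, 0, 0, 0, 0, 1], []], [[], [1, 1, 2, 1, 1], [-1, 0, -1, 1, 2, 3, 2, 2], [0, 0, 0, 0, 0, 0, 1, 1, 2, 1, 1], []], [[], [1], [0, 1, 2, 3, 2, 1], [-1, 0, -1, -1, 1, 2, 3, 3, 2, 1], [0, 0, 0, 0, 0, 0, 0, 0, 0, 0, 1]], [[], [], [], [1, 1, 2, 3, 3, 3, 3, 2, 1, 1], [-1, 0, -1, -1, 0, 0, 0, 1, 1, 0, 1]]]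

def kL : List (List ℤ) := [[1], [0, 1, 1, 2, 3, 3, 3, 3, 2, 1, 1], [0, 0, 0, 0, 0, 0, 1, 2, 3, 4, 5, 5, 4, 3, 2, 1], [0, 0, 0, 0, 0, 0, 0, 0, 0, 0, 0, 1, 1, 2, 3, 3, 3, 3, 2, 1, 1], [0, 0, 0, 0, 0, 0, 0, 0, 0, 0, 0, 0, 0, 0, 0, 0, 0, 0, 0, 0, 0, 1]]

/-- the data -/
def data : Data A 1 72 5 where
  t := tab
  e := e
  wl := enc.wl
  mat c c' := (matL.getD c []).getD c' []
  kk c := kL.getD c []
  ff := [1, 1, 2, 3, 3, 3, 3, 2, 1, 1]
  bb c c' := (bbL.getD c []).getD c' []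
  chkM := by (delta Cfsg.Agent.H996.Eight.Cert.ChkM Cfsg.Agent.H996.Eight.Cert.ctr; simp only [Cfsg.Agent.H996.Eight.Kq.pEq_eq]; decide +kernel)
  chkK := by (delta Cfsg.Agent.H64.Dl.Sph.ChkK; simp only [Cfsg.Agent.H996.Eight.Kq.pEq_eq]; decide +kernel)
  chkF := by decide +kernel
  chkP := by (simp only [Cfsg.Agent.H996.Eight.Kq.pPos_eq]; decide +kernel)
  chkB := by (simp only [Cfsg.Agent.H996.Eight.Kq.pEq_eq]; decide +kernel)
  wo := by decide +kernel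
  ws := by decide +kernel

/-- `1*q^1*P8*P9 / 1` (`Pn` the cyclotomic polynomials) -/
def c1 : Crt 5 where
  th := [-1, 0, 0, 1, 2, 3, 2, 2, 1]
  nu c := ([[0, 0, 0, 0, 0, 0, 1, 0, 0, 1], [0, 0, 0, 0, 0, -1, 1, 1], [0, 0, 0, -1, 0, 0, 1], [0, 0, -1, -1, 1], [-1, 0, 0, -1]] : List (List ℤ)).getD c []
  steps := [(3, [(0, [-1, -4, -5, -3, -3, -1, 2, 1]), (2, [0, 1, 3, 5, 7, 8, 9, 7, 5, 2, 1, -1, -1, -1]), (3, [0, 0, 1, 1, 0, 2, 1, 0, 1, 2, -1, 2, 1, 0, 0, 1, -1]), (4, [0, 0, 0, 0, 0, 0, 0, 0, 0, 0, 1, -1, 0, 1, 0, -1, 1])]), (2, [(0, [-1, -1, -1]), (2, [0, 1, 1, 1, 2, 2, 1, 1, 1])]), (4, [(4, [1])]), (1, [(0, [1])])]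
  dn := [0, 1, 0, 0, 1, 1, 0, 1, 1, 0, 0, 1]
  den := 1

theorem ok1 : c1.ok (data.t.cls data.t.o) data.bb data.kk := by (delta Cfsg.Agent.H996.Eight.Cert.Crt.ok; simp only [Cfsg.Agent.H996.Eight.Kq.pEq_eq, Cfsg.Agent.H996.Eight.Kq.pZero_eq, Cfsg.Agent.H996.Eight.Kq.pPos_eq, Cfsg.Agent.H996.Eight.Kq.chkU_eq]; decide +kernel)

theorem dvd1 : pDvd c1.den c1.dn := by decide +kernel

/-- `1*q^2*P4*P5*P8*P12 / 1` (`Pn` the cyclotomic polynomials) -/
def c2 : Crt 5 where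
  th := [-1, 0, -1, 0, 1, 1, 1, 1]
  nu c := ([[0, 0, 0, 0, 0, 0, 0, 0, 0, 1, 1, 1, 2, 2, 1, 1, 1], [0, 0, 0, 0, 0, 0, 0, 0, -1, 0, 0, 0, 1, 1], [0, 0, 0, 0, 0, 1, -1, -1, 0, -1, -1, 1], [0, 0, 0, 1, 1, 0, 0, 0, -1], [1, 1, 1, 2, 2, 1, 1, 1]] : List (List ℤ)).getD c []
  steps := [(3, [(0, [-1, 0, 0, 1, 0, 1]), (1, [1, 0, 2, 1, 2, 1, 2, 0, 1]), (2, [0, 0, -1, -1, -2, -2, -3, -2, -2, -1, -1])]), (2, [(0, [-1, -1, -1]), (2, [0, 1, 1, 1, 2, 2, 1, 1, 1])]), (4, [(4, [1])]), (1, [(0, [1])])]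
  dn := [0, 0, 1, 1, 1, 1, 2, 1, 2, 2, 2, 1, 2, 1, 1, 1, 1]
  den := 1

theorem ok2 : c2.ok (data.t.cls data.t.o) data.bb data.kk := by (delta Cfsg.Agent.H996.Eight.Cert.Crt.ok; simp only [Cfsg.Agent.H996.Eight.Kq.pEq_eq, Cfsg.Agent.H996.Eight.Kq.pZero_eq, Cfsg.Agent.H996.Eight.Kq.pPos_eq, Cfsg.Agent.H996.Eight.Kq.chkU_eq]; decide +kernel)

theorem dvd2 : pDvd c2.den c2.dn := by decide +kernel

/-- `1*q^3*P5*P8*P9*P12 / 2` (`Pn` the cyclotomic polynomials) -/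
def c3 : Crt 5 where
  th := [-1, 0, -1, -1, 0, -1]
  nu c := ([[0, 0, 0, 0, 0, 0, 0, 0, 0, 0, 0, 0, 1, 1, 1, 1, 1], [0, 0, 0, 0, 0, 0, 0, 0, 0, 0, 0, -1], [0, 0, 0, 0, 0, 0, 0, 0, 1], [0, 0, 0, 0, 0, -1], [1, 1, 1, 1, 1]] : List (List ℤ)).getD c []
  steps := [(3, [(0, [-2, -3, -4, -3, -4, -1]), (1, [2, 2, 4, 6, 6, 6, 6, 4, 2, 2]), (2, [0, 0, -1, -2, -3, -4, -5, -5, -4, -3, -2, -1])]), (2, [(0, [-1, -1, -1]), (2, [0, 1, 1, 1, 2, 2, 1, 1, 1])]), (4, [(4, [1])]), (1, [(0, [1])])]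
  dn := [0, 0, 0, 1, 1, 0, 1, 3, 1, 1, 4, 3, 0, 3, 4, 1, 1, 3, 1, 0, 1, 1]
  den := 2

theorem ok3 : c3.ok (data.t.cls data.t.o) data.bb data.kk := by (delta Cfsg.Agent.H996.Eight.Cert.Crt.ok; simp only [Cfsg.Agent.H996.Eight.Kq.pEq_eq, Cfsg.Agent.H996.Eight.Kq.pZero_eq, Cfsg.Agent.H996.Eight.Kq.pPos_eq, Cfsg.Agent.H996.Eight.Kq.chkU_eq]; decide +kernel)

theorem dvd3 : pDvd c3.den c3.dn := by decide +kernel

/-- `1*q^3*P4^2*P5*P9*P12 / 2` (`Pn` the cyclotomic polynomials) -/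
def c4 : Crt 5 where
  th := [-1, 0, -1, -1, 0, 1]
  nu c := ([[0, 0, 0, 0, 0, 0, 0, 0, 0, 0, 0, 0, 1, 1, 2, 3, 3, 3, 3, 2, 1, 1], [0, 0, 0, 0, 0, 0, 0, 0, 0, 0, 0, -1, 0, -1, -1, 0, 1], [0, 0, 0, 0, 0, 0, 0, 0, 1, 0, 1, -1, 0, -1], [0, 0, 0, 0, 0, -1, 0, 1, 1, 0, 1], [-1, -1, -2, -3, -3, -3, -3, -2, -1, -1]] : List (List ℤ)).getD c []
  steps := [(3, [(0, [-2, -3, -6, -5, -5, -3, -3, 0, -1]), (1, [2, 2, 6, 8, 12, 12, 16, 12, 12, 8, 6, 2, 2]), (2, [0, 0, -1, -2, -5, -7, -11, -12, -14, -12, -11, -7, -5, -2, -1])]), (2, [(0, [-1, -1, -1]), (2, [0, 1, 1, 1, 2, 2, 1, 1, 1])]), (4, [(4, [1])]), (1, [(0, [1])])]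
  dn := [0, 0, 0, 1, 1, 2, 3, 3, 3, 5, 4, 5, 6, 5, 4, 5, 3, 3, 3, 2, 1, 1]
  den := 2

theorem ok4 : c4.ok (data.t.cls data.t.o) data.bb data.kk := by (delta Cfsg.Agent.H996.Eight.Cert.Crt.ok; simp only [Cfsg.Agent.H996.Eight.Kq.pEq_eq, Cfsg.Agent.H996.Eight.Kq.pZero_eq, Cfsg.Agent.H996.Eight.Kq.pPos_eq, Cfsg.Agent.H996.Eight.Kq.chkU_eq]; decide +kernel)

theorem dvd4 : pDvd c4.den c4.dn := by decide +kernel

end Cfsg.Agent.H996.Eight.TabE6b
end

-- part: H996/Eight/TabE7b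
section
set_option linter.all false

/-!
# The table of the spherical machine: `E₇`, node `0` (helper996, for S4899; made by a program)

126 states, 5 classes; 4 certificates.
-/

set_option autoImplicit false
set_option maxRecDepth 20000

namespace Cfsg.Agent.H996.Eight.TabE7b

open Cfsg.Agent.H967.Sph Cfsg.Agent.H64.Dl.Sph Cfsg.Agent.H996.Eight.Cert Cfsg.Agent.H996.Eight.En

/-- the Cartan matrix -/
def A (i k : Fin 7) : ℤ := (([[2, 0, -1, 0, 0, 0, 0], [0, 2, 0, -1, 0, 0, 0], [-1, 0, 2, -1, 0, 0, 0], [0, -1, -1, 2, -1, 0, 0], [0, 0, 0, -1, 2, -1, 0], [0, 0, 0, 0, -1, 2, -1], [0, 0, 0, 0, 0, -1, 2]] : List (List ℤ)).getD i []).getD k 0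

/-- the encoded table -/
def enc : Enc 7 126 5 where
  j := 0
  V := 576532013170679251645254201228270111244525216502667111968688567218411104905036677970343606650241246957014922184266075315627450263598917093514611047925187794693433955351521187900288472318720598090868306884503900930402966035543212821722171531692273516716213816638719835882438294234538568804428632969128669903761196639882040014525525232618475962074923479834917319489016017118012226249608677142994165783362119574292072211569982575914246574459329764400838535547645795079556277977461954096468694356456046742857121194806039602219456259100981066096140755971649652654044930134413932302557108568951194337688289425731493619176640666817769298614324068837480112169670882655809657598560392764556187191820917637122843883992817545072002272479274077364334991138048136299781939766959977471774032060542460886815688644305295992343498171510264533335401061993359924821887372967272938284744661900467052177911815120796011720435230083812190709062423735238969995252525060423105414649966014123704947820066401457677263743441158737561680576631609303128063992553723718647760521976621931464841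
  S := 148455446529912893497422081633241960269509225552154303713384551751431557831670048412937340081390856604226641384578475587732642045347239866955499370537815860942083785925727152296325681351915764002860188612960892089673885994697815824032423091738184523212899009904700099942408547788644470179440331352523233068875591484579907910754544567864929062173600418882510846681020243067459673290260800821263842426481638508826925506332957115877243683635671311229234625047745110420188868958422879031595614331758251198733219950985457498318968095602981683506613680523479278811837181670471600792529637259020834393637066972977891431544005564006917946406599056099164067921708761948554773430586382840183666530342298829384208465419875450882000743320323722122639539345814261078480876922808223803985913279654667988718096308447144097510012564743695613362883184950949331569866130972446391329271149194179789565683916684338834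05888410347216530504487391893737742082442827933282998153137887863703758700612042728841377078857751902454795379813471626897878013437035560653295816672604663025776311435758423913297018038442722825189663405425732500763344426458358831523436704199108090658135330634119840041069907673664100138056113446228217091006048941894251633062202846707993756527287414669465167668221719966866842956549421090457587721100925288654790376036401855191114271963853286269218142200091252797918295912669647465785102751351414638961429738721707665604288941286505345749462443444450694376903591939724494865692722342569432128877447997507301295253347844755031474301719210949589825085227535554282501766722726306823786789806461265527864014861899355320262028399466523560951848851135495582234503614019642279836955763053871011539607226790938259494799351795134696946977784197649323140505769806846039510907891845484268737142048770221753002987344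9359570102165058359545980804450809122640098630565449261384977880144477280350634530466514181550687967471843116227283523668089275800461971177200748034640360973994561799105238754591892998294948084869084947295741889379557785499287398155070942605408677653570752504199604674795749131385318529333737077187581494336481371910831401481317205639715733544849695128098302243589743877936693978468344596557499388158271544751164443392319328126907473473300108875472118126612118298728632121217015823320431219787822844751295139406076760539428434757845470559131095309188002937351482935003470447883034373206454634269535465103989080998378071854311730112007960341110045540866323449332576157874069017837541624917641962320932159076240060110538464999325897330813403998694180507693431753003896764733557173691619418862667967698697374553562952081915368391709183028421600278944415745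
  C := 570412871761217467048325126552557174999654509768005853624158343570575678599169829499611366296427220104159174175537951300798209958368603715333614564542651625249607610558110304027012905337888
  P := 2406230151263016533149731068086505215638169502659869279715390546054733135716568082886491020537720647661903236476394030900546636588883536975973375655328240249157079965821694751680680660546351487665603376092558318388845821418382021978148296885031649755883911075960235951216330202132362546131117441514143617160263659272519274239638238138932691864732340880835050029557380215865344000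
  Q := 450946932089415287041207241552449437566864248823482856209110102323368532324761504843493000851616919962457697734546776374896605239606991382249484661248
  CP := 19834499841171816760066865081156843917552051036718826756487926393505041399246654345258934138357914673933643607787847196496598619526183120126455717791704730477816834490147638697519735864151656329842541367267699064711633390826810215977863211998372742983378123466167620233124871132880562263800124645077236244811417657441248355842603289466716247069219692551619771096442860699048214527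
  CQ := 450946993069999508721418432029015357041785372393975793070086321495181768490003967509543579574053922380745436571534323631303687283237616775002641740288
  R := 137513056338944
  W := 354942313839533786609208505631037692012600114474845706673969428344244251145248665600695199054459886115047998591932369034494317507678773200439543965972647041755209995308267503914732408846271403265811189730428323235845696053238421997151615574264780905282257715894030211016484756744695504453864076393709824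

/-- the table -/
def tab : Tab A 0 126 5 :=
  enc.tab A (by decide +kernel) (Cfsg.Agent.H996.Eight.Kq.t1 447 (by decide +kernel)) (Cfsg.Agent.H996.Eight.Kq.act_of (by decide +kernel)) (Cfsg.Agent.H996.Eight.Kq.t3 (by decide +kernel)) (by decide +kernel)
    (Cfsg.Agent.H996.Eight.Kq.t5 (by decide +kernel)) (Cfsg.Agent.H996.Eight.Kq.t6 (r := fun a => enc.crep (enc.cls a)) (by decide +kernel))

/-- the exponents of the parameters -/
def e (i : Fin 7) : ℕ := ([1, 1, 1, 1, 1, 1, 1] : List ℕ).getD i 0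

def matL : List (List (List ℤ)) := [[[], [0, 1], [], [], []], [[0, 1], [0, -1, 1, 1, 1, 2, 2, 3, 2, 2, 1, 1], [0, 0, 0, 0, 0, 0, 0, 0, 1, 1, 2, 2, 3, 2, 2, 1, 1], [0, 0, 0, 0, 0, 0, 0, 0, 0, 0, 0, 0, 0, 0, 0, 0, 0, 1], []], [[], [0, 0, 0, 0, 0, 0, 0, 0, 1, 1, 2, 2, 3, 2, 2, 1, 1], [0, 0, 0, 0, 0, 0, 0, 0, -1, 0, -1, 0, -1, 2, 2, 4, 4, 6, 5, 4, 3, 2, 1], [0, 0, 0, 0, 0, 0, 0, 0, 0, 0, 0, 0, 0, 0, 0, 0, 0, 0, 1, 1, 2, 2, 3, 2, 2, 1, 1], []], [[], [0, 0, 0, 0, 0, 0, 0, 0, 0, 0, 0, 0, 0, 0, 0, 0, 0, 1], [0, 0, 0, 0, 0, 0, 0, 0, 0, 0, 0, 0, 0, 0, 0, 0, 0, 0, 1, 1, 2, 2, 3, 2, 2, 1, 1], [0, 0, 0, 0, 0, 0, 0, 0, 0, 0, 0, 0, 0, 0, 0, 0, 0, -1, 0, 0, -1, 0, -1, 1, 1, 2, 2, 3, 3, 2, 2, 1, 1], [0, 0, 0, 0, 0, 0, 0, 0, 0, 0, 0, 0, 0, 0, 0, 0, 0, 0, 0, 0, 0, 0, 0, 0, 0, 0, 0, 0, 0, 0, 0, 0, 0, 1]], [[], [], [], [0, 0, 0, 0, 0, 0, 0, 0, 0, 0, 0, 0, 0, 0, 0, 0, 0, 0, 0, 0, 0, 0, 0, 0, 0, 0, 0, 0, 0, 0, 0,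 0, 0, 1], [0, 0, 0, 0, 0, 0, 0, 0, 0, 0, 0, 0, 0, 0, 0, 0, 0, 0, 0, 0, 0, 0, 0, 0, 0, 0, 0, 0, 0, 0, 0, 0, 0, -1, 1]]]

def bbL : List (List (List ℤ)) := [[[], [0, 1, 1, 1, 2, 2, 3, 3, 3, 3, 3, 3, 2, 2, 1, 1, 1], [], [], []], [[1], [-1, 1, 1, 1, 2, 2, 3, 2, 2, 1, 1], [0, 0, 0, 0, 0, 0, 0, 1, 1, 2, 2, 3, 2, 2, 1, 1], [0, 0, 0, 0, 0, 0, 0, 0, 0, 0, 0, 0, 0, 0, 0, 0, 1], []], [[], [1, 1, 1, 2, 1, 1, 1], [-1, 0, 0, -1, 1, 1, 2, 3, 3, 3, 2, 2, 1], [0, 0, 0, 0, 0, 0, 0, 0, 0, 0, 1, 1, 1, 2, 1, 1, 1], []], [[], [1], [0, 1, 1, 2, 2, 3, 2, 2, 1, 1], [-1, 0, 0, -1, 0, -1, 1, 1, 2, 2, 3, 3, 2, 2, 1, 1], [0, 0, 0, 0, 0, 0, 0, 0, 0, 0, 0, 0, 0, 0, 0, 0, 1]], [[], [], [], [1, 1, 1, 2, 2, 3, 3, 3, 3, 3, 3, 2, 2, 1, 1, 1], [-1, 0, 0, -1, 0, -1, 0, 0, 0, 0, 0, 1, 0, 1, 0, 0, 1]]]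

def kL : List (List ℤ) := [[1], [0, 1, 1, 1, 2, 2, 3, 3, 3, 3, 3, 3, 2, 2, 1, 1, 1], [0, 0, 0, 0, 0, 0, 0, 0, 1, 1, 2, 2, 4, 4, 5, 5, 6, 6, 5, 5, 4, 4, 2, 2, 1, 1], [0, 0, 0, 0, 0, 0, 0, 0, 0, 0, 0, 0, 0, 0, 0, 0, 0, 1, 1, 1, 2, 2, 3, 3, 3, 3, 3, 3, 2, 2, 1, 1, 1], [0, 0, 0, 0, 0, 0, 0, 0, 0, 0, 0, 0, 0, 0, 0, 0, 0, 0, 0, 0, 0, 0, 0, 0, 0, 0, 0, 0, 0, 0, 0, 0, 0, 1]]

/-- the data -/
def data : Data A 0 126 5 where
  t := tab
  e := e
  wl := enc.wl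
  mat c c' := (matL.getD c []).getD c' []
  kk c := kL.getD c []
  ff := [1, 1, 1, 2, 2, 3, 3, 3, 3, 3, 3, 2, 2, 1, 1, 1]
  bb c c' := (bbL.getD c []).getD c' []
  chkM := by (delta Cfsg.Agent.H996.Eight.Cert.ChkM Cfsg.Agent.H996.Eight.Cert.ctr; simp only [Cfsg.Agent.H996.Eight.Kq.pEq_eq]; decide +kernel)
  chkK := by (delta Cfsg.Agent.H64.Dl.Sph.ChkK; simp only [Cfsg.Agent.H996.Eight.Kq.pEq_eq]; decide +kernel)
  chkF := by decide +kernel
  chkP := by (simp only [Cfsg.Agent.H996.Eight.Kq.pPos_eq]; decide +kernel)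
  chkB := by (simp only [Cfsg.Agent.H996.Eight.Kq.pEq_eq]; decide +kernel)
  wo := by decide +kernel
  ws := by decide +kernel

/-- `1*q^1*P7*P12*P14 / 1` (`Pn` the cyclotomic polynomials) -/
def c1 : Crt 5 where
  th := [-1, 0, 0, 0, 1, 1, 2, 2, 3, 2, 2, 2, 1, 1]
  nu c := ([[0, 0, 0, 0, 0, 0, 0, 0, 0, 1, 0, 0, 0, 0, 1], [0, 0, 0, 0, 0, 0, 0, 0, -1, 1, 0, 1], [0, 0, 0, 0, 0, -1, 0, 0, 0, 1], [0, 0, 0, -1, 0, -1, 1], [-1, 0, 0, 0, 0, -1]] : List (List ℤ)).getD c []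
  steps := [(3, [(0, [-1, 0, -3, 2, -4, 3, -4, 2, -1, 1]), (2, [0, 1, 0, 2, 0, 3, 1, 3, 1, 3, 2, 1, 2, 0, 2, -1, 1, -1, 1, -1]), (3, [0, 0, 0, 1, -1, 1, -1, 0, 2, -3, 2, -2, 1, 0, -1, 1, -2, 3, -2, 1, 0, -1, 2, -1]), (4, [0, 0, 0, 0, 0, 0, 0, 0, 0, 0, 0, 0, 0, 0, 0, 0, 1, -2, 1, 0, 0, 1, -2, 1])]), (2, [(0, [-1]), (2, [0, 1, 0, 0, 0, 1, 1, 0, 0, 0, 1])]), (4, [(4, [1])]), (1, [(0, [1])])]
  dn := [0, 1, 0, 0, 0, 1, 0, 1, 0, 1, 0, 1, 0, 1, 0, 0, 0, 1]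
  den := 1

theorem ok1 : c1.ok (data.t.cls data.t.o) data.bb data.kk := by (delta Cfsg.Agent.H996.Eight.Cert.Crt.ok; simp only [Cfsg.Agent.H996.Eight.Kq.pEq_eq, Cfsg.Agent.H996.Eight.Kq.pZero_eq, Cfsg.Agent.H996.Eight.Kq.pPos_eq, Cfsg.Agent.H996.Eight.Kq.chkU_eq]; decide +kernel)

theorem dvd1 : pDvd c1.den c1.dn := by decide +kernel

/-- `1*q^2*P3^2*P6^2*P9*P12*P18 / 1` (`Pn` the cyclotomic polynomials) -/
def c2 : Crt 5 where
  th := [-1, 0, 0, -1, 0, 0, 1, 1, 1, 1, 1, 1]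
  nu c := ([[0, 0, 0, 0, 0, 0, 0, 0, 0, 0, 0, 0, 0, 0, 1, 0, 2, 0, 3, 1, 3, 2, 2, 3, 1, 3, 0, 2, 0, 1], [0, 0, 0, 0, 0, 0, 0, 0, 0, 0, 0, 0, 0, -1, 1, -2, 2, -3, 3, -2, 3, -1, 2, 0, 1], [0, 0, 0, 0, 0, 0, 0, 0, 0, 1, -1, 1, -2, 0, -1, -1, 0, -2, 1, -1, 1], [0, 0, 0, 0, 0, 1, 0, 2, -1, 3, -2, 3, -3, 2, -2, 1, -1], [1, 0, 2, 0, 3, 1, 3, 2, 2, 3, 1, 3, 0, 2, 0, 1]] : List (List ℤ)).getD c []
  steps := [(3, [(0, [-1, -1, -1, -1, 0, 0, 1, 0, 1, 0, 1]), (1, [1, 1, 1, 2, 2, 3, 3, 3, 3, 3, 3, 2, 2, 1, 1, 1]), (2, [0, 0, 0, -1, -1, -2, -2, -3, -3, -4, -4, -4, -4, -3, -3, -2, -2, -1, -1])]), (2, [(0, [-1]), (2, [0, 1, 0, 0, 0, 1, 1, 0, 0, 0, 1])]), (4, [(4, [1])]), (1, [(0, [1])])]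
  dn := [0, 0, 1, 0, 1, 0, 2, 0, 2, 0, 3, 0, 3, 0, 3, 0, 3, 0, 3, 0, 2, 0, 2, 0, 1, 0, 1]
  den := 1

theorem ok2 : c2.ok (data.t.cls data.t.o) data.bb data.kk := by (delta Cfsg.Agent.H996.Eight.Cert.Crt.ok; simp only [Cfsg.Agent.H996.Eight.Kq.pEq_eq, Cfsg.Agent.H996.Eight.Kq.pZero_eq, Cfsg.Agent.H996.Eight.Kq.pPos_eq, Cfsg.Agent.H996.Eight.Kq.chkU_eq]; decide +kernel)

theorem dvd2 : pDvd c2.den c2.dn := by decide +kernel

/-- `1*q^3*P5*P7*P8*P12*P14*P18 / 2` (`Pn` the cyclotomic polynomials) -/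
def c3 : Crt 5 where
  th := [-1, 0, 0, -1, 0, -1, 0, 0, -1]
  nu c := ([[0, 0, 0, 0, 0, 0, 0, 0, 0, 0, 0, 0, 0, 0, 0, 0, 0, 0, 1, 2, 3, 4, 5, 5, 5, 5, 4, 3, 2, 1], [0, 0, 0, 0, 0, 0, 0, 0, 0, 0, 0, 0, 0, 0, 0, 0, 0, -1, -1, -1, -1, -1], [0, 0, 0, 0, 0, 0, 0, 0, 0, 0, 0, 0, 0, 1, 1, 1, 1], [0, 0, 0, 0, 0, 0, 0, 0, -1, -1, -1, -1, -1], [1, 2, 3, 4, 5, 5, 5, 5, 4, 3, 2, 1]] : List (List ℤ)).getD c []
  steps := [(3, [(0, [1, 0, 2, -1, 2, 0, 1]), (2, [0, -1, 0, -2, 0, -3, -1, -3, -2, -2, -3, -1, -3, 0, -2, 0, -1]), (3, [0, 0, 0, 0, 1, 1, 1, 2, 2, 3, 3, 3, 3, 3, 3, 2, 2, 1, 1, 1]), (4, [0, 0, 0, 0, 0, 0, 0, 0, 0, 0, 0, 0, -1, -1, -1, -1, -1, -1, -1, -1])]), (2, [(0, [-1]), (2, [0, 1, 0, 0, 0, 1, 1, 0, 0, 0, 1])]), (4, [(4, [1])]), (1, [(0, [1])])]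
  dn := [0, 0, 0, 1, 1, 1, 0, 2, 1, 3, 1, 4, 1, 5, 1, 6, 2, 6, 0, 6, 2, 6, 1, 5, 1, 4, 1, 3, 1, 2, 0, 1, 1, 1]
  den := 2

theorem ok3 : c3.ok (data.t.cls data.t.o) data.bb data.kk := by (delta Cfsg.Agent.H996.Eight.Cert.Crt.ok; simp only [Cfsg.Agent.H996.Eight.Kq.pEq_eq, Cfsg.Agent.H996.Eight.Kq.pZero_eq, Cfsg.Agent.H996.Eight.Kq.pPos_eq, Cfsg.Agent.H996.Eight.Kq.chkU_eq]; decide +kernel)

theorem dvd3 : pDvd c3.den c3.dn := by decide +kernel

/-- `1*q^3*P2^4*P6^2*P7*P10*P14*P18 / 2` (`Pn` the cyclotomic polynomials) -/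
def c4 : Crt 5 where
  th := [-1, 0, 0, -1, 0, -1, 0, 0, 1]
  nu c := ([[0, 0, 0, 0, 0, 0, 0, 0, 0, 0, 0, 0, 0, 0, 0, 0, 0, 0, 1, 1, 0, 1, 2, 2, 1, 1, 2, 2, 1, 0, 1, 1], [0, 0, 0, 0, 0, 0, 0, 0, 0, 0, 0, 0, 0, 0, 0, 0, 0, -1, 0, 1, -1, -1, 0, 1], [0, 0, 0, 0, 0, 0, 0, 0, 0, 0, 0, 0, 0, 1, 0, -1, 1, 0, -1], [0, 0, 0, 0, 0, 0, 0, 0, -1, 0, 1, 1, -1, 0, 1], [-1, -1, 0, -1, -2, -2, -1, -1, -2, -2, -1, 0, -1, -1]] : List (List ℤ)).getD c []
  steps := [(3, [(0, [-1, -2, -1, -3, -4, -4, -3, -3, -3, -3, -2, 0, -1, -1]), (1, [1, 2, 1, 3, 5, 5, 7, 7, 8, 9, 9, 8, 7, 7, 5, 5, 3, 1, 2, 1]), (2, [0, 0, 0, -1, -1, -1, -3, -4, -4, -5, -7, -7, -7, -7, -7, -7, -5, -4, -4, -3, -1, -1, -1])]), (2, [(0, [-1]), (2, [0, 1, 0, 0, 0, 1, 1, 0, 0, 0, 1])]), (4, [(4, [1])]), (1, [(0, [1])])]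
  dn := [0, 0, 0, 1, 1, 1, 2, 2, 3, 3, 3, 4, 5, 5, 5, 6, 6, 6, 6, 6, 6, 6, 5, 5, 5, 4, 3, 3, 3, 2, 2, 1, 1, 1]
  den := 2

theorem ok4 : c4.ok (data.t.cls data.t.o) data.bb data.kk := by (delta Cfsg.Agent.H996.Eight.Cert.Crt.ok; simp only [Cfsg.Agent.H996.Eight.Kq.pEq_eq, Cfsg.Agent.H996.Eight.Kq.pZero_eq, Cfsg.Agent.H996.Eight.Kq.pPos_eq, Cfsg.Agent.H996.Eight.Kq.chkU_eq]; decide +kernel)

theorem dvd4 : pDvd c4.den c4.dn := by decide +kernel

end Cfsg.Agent.H996.Eight.TabE7b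
end

-- part: H996/Eight/TabF4a
section
set_option linter.all false

/-!
# The table of the spherical machine: `F₄`, node `0` (helper996, for S4899; made by a program)

24 states, 5 classes; 4 certificates.
-/

set_option autoImplicit false
set_option maxRecDepth 20000

namespace Cfsg.Agent.H996.Eight.TabF4a

open Cfsg.Agent.H967.Sph Cfsg.Agent.H64.Dl.Sph Cfsg.Agent.H996.Eight.Cert Cfsg.Agent.H996.Eight.En

/-- the Cartan matrix -/
def A (i k : Fin 4) : ℤ := (([[2, -1, 0, 0], [-1, 2, -2, 0], [0, -1, 2, -1], [0, 0, -1, 2]] : List (List ℤ)).getD i []).getD k 0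

/-- the encoded table -/
def enc : Enc 4 24 5 where
  j := 0
  V := 21013801940163166660007945180406784562663378284275551516669661204235330188013978886970455502970504734180184386144393
  S := 219102856552418326397026619362445635411598576327450320405242928237011927487343320270139420186610669813390253723825317771858664716782433645530079029259169855023969409213513765352233141711939252914395385814974586870772973141136269757079122756008716649981228314218956992630909198079648333825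
  C := 170173342163579331375162832916087840
  P := 37995022776389900215743669652279557517133827294378444095787674230587392
  Q := 352029734108865814464635136
  CP := 1765157046060728488021291324189876436589227970426464577155146875928575999
  CQ := 352029734180923408502563072
  R := 25302732375040
  W := 369144744884584745186752644434212645045964364134001803520

/-- the table -/
def tab : Tab A 0 24 5 :=
  enc.tab A (by decide +kernel) (Cfsg.Agent.H996.Eight.Kq.t1 67 (by decide +kernel)) (Cfsg.Agent.H996.Eight.Kq.act_of (by decide +kernel)) (Cfsg.Agent.H996.Eight.Kq.t3 (by decide +kernel)) (by decide +kernel)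
    (Cfsg.Agent.H996.Eight.Kq.t5 (by decide +kernel)) (Cfsg.Agent.H996.Eight.Kq.t6 (r := fun a => enc.crep (enc.cls a)) (by decide +kernel))

/-- the exponents of the parameters -/
def e (i : Fin 4) : ℕ := ([1, 1, 1, 1] : List ℕ).getD i 0

def matL : List (List (List ℤ)) := [[[], [0, 1], [], [], []], [[0, 1], [0, -1, 1, 1, 1, 1], [0, 0, 0, 0, 0, 1, 1, 1], [0, 0, 0, 0, 0, 0, 0, 0, 1], []], [[], [0, 0, 0, 0, 0, 1, 1, 1], [0, 0, 0, 0, 0, -1, 0, 0, 1], [0, 0, 0, 0, 0, 0, 0, 0, 0, 1, 1, 1], []], [[], [0, 0, 0, 0, 0, 0, 0, 0, 1], [0, 0, 0, 0, 0, 0, 0, 0, 0, 1, 1, 1], [0, 0, 0, 0, 0, 0, 0, 0, -1, 0, 0, 0, 2, 1, 1], [0, 0, 0, 0, 0, 0, 0, 0, 0, 0, 0, 0, 0, 0, 0, 1]], [[], [], [], [0, 0, 0, 0, 0, 0, 0, 0, 0, 0, 0, 0, 0, 0, 0, 1], [0, 0, 0, 0, 0, 0, 0, 0, 0, 0, 0, 0, 0, 0, 0, -1, 1]]]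

def bbL : List (List (List ℤ)) := [[[], [0, 1, 1, 1, 2, 1, 1, 1], [], [], []], [[1], [-1, 1, 1, 1, 1], [0, 0, 0, 0, 1, 1, 1], [0, 0, 0, 0, 0, 0, 0, 1], []], [[], [1, 1, 1, 1], [-1, 0, 0, 0, 1], [0, 0, 0, 0, 1, 1, 1, 1], []], [[], [1], [0, 1, 1, 1], [-1, 0, 0, 0, 2, 1, 1], [0, 0, 0, 0, 0, 0, 0, 1]], [[], [], [], [1, 1, 1, 2, 1, 1, 1], [-1, 0, 0, -1, 1, 0, 0, 1]]]

def kL : List (List ℤ) := [[1], [0, 1, 1, 1, 2, 1, 1, 1], [0, 0, 0, 0, 0, 1, 1, 1, 1, 1, 1], [0, 0, 0, 0, 0, 0, 0, 0, 1, 1, 1, 2, 1, 1, 1], [0, 0, 0, 0, 0, 0, 0, 0, 0, 0, 0, 0, 0, 0, 0, 1]]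

/-- the data -/
def data : Data A 0 24 5 where
  t := tab
  e := e
  wl := enc.wl
  mat c c' := (matL.getD c []).getD c' []
  kk c := kL.getD c []
  ff := [1, 1, 1, 2, 1, 1, 1]
  bb c c' := (bbL.getD c []).getD c' []
  chkM := by (delta Cfsg.Agent.H996.Eight.Cert.ChkM Cfsg.Agent.H996.Eight.Cert.ctr; simp only [Cfsg.Agent.H996.Eight.Kq.pEq_eq]; decide +kernel)
  chkK := by (delta Cfsg.Agent.H64.Dl.Sph.ChkK; simp only [Cfsg.Agent.H996.Eight.Kq.pEq_eq]; decide +kernel)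
  chkF := by decide +kernel
  chkP := by (simp only [Cfsg.Agent.H996.Eight.Kq.pPos_eq]; decide +kernel)
  chkB := by (simp only [Cfsg.Agent.H996.Eight.Kq.pEq_eq]; decide +kernel)
  wo := by decide +kernel
  ws := by decide +kernel

/-- `1*q^1*P4*P8*P12 / 2` (`Pn` the cyclotomic polynomials) -/
def c1 : Crt 5 where
  th := [-1, 0, -1, -1, 0, -1]
  nu c := ([[0, 0, 0, 0, 0, 0, 1, 1], [0, 0, 0, 0, 0, -1], [0, 0, 0, 1, 1], [0, 0, -1], [1, 1]] : List (List ℤ)).getD c []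
  steps := [(3, [(0, [1, 0, 1]), (2, [0, -1, -1, -1, -1, -1, -1]), (3, [0, 0, 1, 1, 1, 2, 1, 1, 1]), (4, [0, 0, 0, 0, 0, 0, 0, -1, -1])]), (2, [(0, [-1]), (2, [0, 1, 0, 0, 1])]), (4, [(4, [1])]), (1, [(0, [1])])]
  dn := [0, 1, 0, 0, 0, 1, 0, 1, 0, 0, 0, 1]
  den := 2

theorem ok1 : c1.ok (data.t.cls data.t.o) data.bb data.kk := by (delta Cfsg.Agent.H996.Eight.Cert.Crt.ok; simp only [Cfsg.Agent.H996.Eight.Kq.pEq_eq, Cfsg.Agent.H996.Eight.Kq.pZero_eq, Cfsg.Agent.H996.Eight.Kq.pPos_eq, Cfsg.Agent.H996.Eight.Kq.chkU_eq]; decide +kernel)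

theorem dvd1 : pDvd c1.den c1.dn := by decide +kernel

/-- `1*q^1*P2^2*P6^2*P8 / 2` (`Pn` the cyclotomic polynomials) -/
def c2 : Crt 5 where
  th := [-1, 0, 1, 1, 2, 1]
  nu c := ([[0, 0, 0, 0, 0, 0, 1, 0, 0, 1], [0, 0, 0, 0, 0, -1, 1, 1], [0, 0, 0, -1, 0, 0, 1], [0, 0, -1, -1, 1], [-1, 0, 0, -1]] : List (List ℤ)).getD c []
  steps := [(3, [(0, [1, 0, 1, -1]), (1, [-1, 0, -1, -1, 0, -1]), (2, [0, 0, -1, 0, -1, 0, -1])]), (2, [(0, [-1]), (2, [0, 1, 0, 0, 1])]), (4, [(4, [1])]), (1, [(0, [1])])]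
  dn := [0, 1, 0, 0, 2, 1, 0, 1, 2, 0, 0, 1]
  den := 2

theorem ok2 : c2.ok (data.t.cls data.t.o) data.bb data.kk := by (delta Cfsg.Agent.H996.Eight.Cert.Crt.ok; simp only [Cfsg.Agent.H996.Eight.Kq.pEq_eq, Cfsg.Agent.H996.Eight.Kq.pZero_eq, Cfsg.Agent.H996.Eight.Kq.pPos_eq, Cfsg.Agent.H996.Eight.Kq.chkU_eq]; decide +kernel)

theorem dvd2 : pDvd c2.den c2.dn := by decide +kernel

/-- `1*q^2*P3^2*P6^2*P12 / 1` (`Pn` the cyclotomic polynomials) -/
def c3 : Crt 5 where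
  th := [-1, 0, 0, 0, 1]
  nu c := ([[0, 0, 0, 0, 0, 0, 0, 0, 1, 1, 1, 1, 1, 1], [0, 0, 0, 0, 0, 0, 0, -1, 0, 0, 1], [0, 0, 0, 0, 0, 0, -1, -1], [0, 0, 0, 1, 0, 0, -1], [1, 1, 1, 1, 1, 1]] : List (List ℤ)).getD c []
  steps := [(4, [(0, [1]), (2, [0, -1, 0, 0, -1]), (4, [0, 0, 0, 0, 0, 1])]), (2, [(0, [-1]), (1, [1, 0, 1, 1, 0, 1]), (2, [0, 0, 0, -1, 1, -1])]), (3, [(0, [-1]), (2, [0, 1, 0, 0, 1])]), (1, [(0, [1])])]
  dn := [0, 0, 1, 0, 1, 0, 2, 0, 1, 0, 2, 0, 1, 0, 1]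
  den := 1

theorem ok3 : c3.ok (data.t.cls data.t.o) data.bb data.kk := by (delta Cfsg.Agent.H996.Eight.Cert.Crt.ok; simp only [Cfsg.Agent.H996.Eight.Kq.pEq_eq, Cfsg.Agent.H996.Eight.Kq.pZero_eq, Cfsg.Agent.H996.Eight.Kq.pPos_eq, Cfsg.Agent.H996.Eight.Kq.chkU_eq]; decide +kernel)

theorem dvd3 : pDvd c3.den c3.dn := by decide +kernel

/-- `1*q^3*P4^2*P8*P12 / 1` (`Pn` the cyclotomic polynomials) -/
def c4 : Crt 5 where
  th := [-1, 0, 0, -1]
  nu c := ([[0, 0, 0, 0, 0, 0, 0, 0, 0, 1, 1, 1, 1], [0, 0, 0, 0, 0, 0, 0, 0, -1], [], [0, 0, 0, 0, 1], [-1, -1, -1, -1]] : List (List ℤ)).getD c []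
  steps := [(3, [(0, [0, 0, 0, 0, 1]), (1, [1, 1, 1, 2, 1, 1, 1]), (2, [0, -1, -1, -2, -2, -2, -2, -1, -1])]), (2, [(0, [-1]), (2, [0, 1, 0, 0, 1])]), (4, [(4, [1])]), (1, [(0, [1])])]
  dn := [0, 0, 0, 1, 0, 1, 0, 1, 0, 2, 0, 1, 0, 1, 0, 1]
  den := 1

theorem ok4 : c4.ok (data.t.cls data.t.o) data.bb data.kk := by (delta Cfsg.Agent.H996.Eight.Cert.Crt.ok; simp only [Cfsg.Agent.H996.Eight.Kq.pEq_eq, Cfsg.Agent.H996.Eight.Kq.pZero_eq, Cfsg.Agent.H996.Eight.Kq.pPos_eq, Cfsg.Agent.H996.Eight.Kq.chkU_eq]; decide +kernel)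

theorem dvd4 : pDvd c4.den c4.dn := by decide +kernel

end Cfsg.Agent.H996.Eight.TabF4a
end
end
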