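import Cfsg.Agent.H710.R4.Sph_m3
import Cfsg.Agent.H996.Eight.KqT
import Cfsg.Agent.Prune
set_option linter.all false
prune_inst 0x7f00000000000000000000000000000000000000000000000000000000000000000000000000000000000000000000000000000000000000000000000000000000000000000000000000000000000000003fffffffffffffffffffffffffffbeffbdffffffff

/-!
# The table of the spherical machine: `E₇`, node `6` (helper996, for S4899; made by a program)

56 states, 4 classes; 3 certificates.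
-/

set_option autoImplicit false
set_option maxRecDepth 20000

namespace Cfsg.Agent.H996.Eight.TabE7a

open Cfsg.Agent.H967.Sph Cfsg.Agent.H64.Dl.Sph Cfsg.Agent.H996.Eight.Cert Cfsg.Agent.H996.Eight.En

/-- the Cartan matrix -/
def A (i k : Fin 7) : ℤ := (([[2, 0, -1, 0, 0, 0, 0], [0, 2, 0, -1, 0, 0, 0], [-1, 0, 2, -1, 0, 0, 0], [0, -1, -1, 2, -1, 0, 0], [0, 0, 0, -1, 2, -1, 0], [0, 0, 0, 0, -1, 2, -1], [0, 0, 0, 0, 0, -1, 2]] : List (List ℤ)).getD i []).getD k 0

/-- the encoded table -/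
def enc : Enc 7 56 4 where
  j := 6
  V := 4874166978446373811192530069238150861895718139467742873783983531133866483610482050419281830406651546868171880663874175687174333212725286616110199110667368761539187018185814919441090405672416975148467495936373136586683495897584574441606495045969427549727694089570924971029967776254857028864600765919222085857547216821459161291973741349915536840462662584607485209155510060878350784991092804686467914657740411631406725795320499537062249764885442354895508567636158426200443016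
  S := 575584357657760135607157950985582034976351544628411927093861045212255379450013254344553332751088540399095711513300146571332162521729823450250047636129805100284403014986988924770974205542490582401233708177295219634104206913992608253571323455939421381800013177591107123214418932673118401264619706865235091018831782028062351005388295038941230717695607361829566770217714929205317146235617961090419145950248784149487758685802774545725701520283902454592845659538734566177727455883237304763363821496950751571441035537580015677169041341377688285039781704766948287068678365093063801497775234706091416376578177603474060776481049179752537788203245490340191935573207241882965662927403656679204010170897047198450747373293326268192122524435828568145633994328113687545839395428783163756211680682979572331899846183800508548750073497246700676032958918515741131981188604253017091854666055104204688606165107317756065730048040867512860590918098276453094084546759970336714393066288620010987819872800775083891266187549367043789920264177543887420150771112674620141752835176747826972088027737827027110795160128711425299623460327119763396110925657996872112767452034557866789420643111831865741870058438656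
  C := 186041879799843005783617823689098057491349521335137209659893737574059220610835317792
  P := 199208486634926744571315616013089260310632056020881792526248489908636879056333234668193826905422668641435311375498136383262407114941914252351176781343884308233789112320
  Q := 10664158403720701386645446528397994542243908946494799753850115016032
  CP := 3770467851529529840588958573999058552594320203077693317422179445232471575479251135948826524139377341330553667961230509937438635504024884352432717996733322691615926517759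
  CQ := 554178403539211454853465901623555900364279922853060041599444272384
  R := 59074675712
  W := 76948216502129311695890990704467410639730893204927962665656820319023927564126489172653872310026820581474702295162797877623548928983296

/-- the table -/
def tab : Tab A 6 56 4 :=
  enc.tab A (by decide +kernel) (Cfsg.Agent.H996.Eight.Kq.t1 174 (by decide +kernel)) (Cfsg.Agent.H996.Eight.Kq.act_of (by decide +kernel)) (Cfsg.Agent.H996.Eight.Kq.t3 (by decide +kernel)) (by decide +kernel)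
    (Cfsg.Agent.H996.Eight.Kq.t5 (by decide +kernel)) (Cfsg.Agent.H996.Eight.Kq.t6 (r := fun a => enc.crep (enc.cls a)) (by decide +kernel))

/-- the exponents of the parameters -/
def e (i : Fin 7) : ℕ := ([1, 1, 1, 1, 1, 1, 1] : List ℕ).getD i 0

def matL : List (List (List ℤ)) := [[[], [0, 1], [], []], [[0, 1], [0, -1, 1, 1, 1, 1, 2, 2, 2, 2, 2, 1, 1, 1], [0, 0, 0, 0, 0, 0, 0, 0, 0, 0, 1, 1, 1, 1, 2, 1, 1, 1, 1], []], [[], [0, 0, 0, 0, 0, 0, 0, 0, 0, 0, 1, 1, 1, 1, 2, 1, 1, 1, 1], [0, 0, 0, 0, 0, 0, 0, 0, 0, 0, -1, 0, 0, 0, -1, 1, 1, 1, 1, 3, 2, 2, 2, 2, 1, 1, 1], [0, 0, 0, 0, 0, 0, 0, 0, 0, 0, 0, 0, 0, 0, 0, 0, 0, 0, 0, 0, 0, 0, 0, 0, 0, 0, 0, 1]], [[], [], [0, 0, 0, 0, 0, 0, 0, 0, 0, 0, 0, 0, 0, 0, 0, 0, 0, 0, 0, 0, 0, 0, 0, 0, 0, 0, 0, 1], [0, 0, 0, 0, 0, 0, 0, 0, 0, 0, 0, 0, 0, 0, 0, 0, 0, 0, 0, 0, 0, 0, 0, 0, 0, 0, 0, -1, 1]]]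

def bbL : List (List (List ℤ)) := [[[], [0, 1, 1, 1, 1, 2, 2, 2, 2, 3, 2, 2, 2, 2, 1, 1, 1, 1], [], []], [[1], [-1, 1, 1, 1, 1, 2, 2, 2, 2, 2, 1, 1, 1], [0, 0, 0, 0, 0, 0, 0, 0, 0, 1, 1, 1, 1, 2, 1, 1, 1, 1], []], [[], [1, 1, 1, 1, 2, 1, 1, 1, 1], [-1, 0, 0, 0, -1, 1, 1, 1, 1, 3, 2, 2, 2, 2, 1, 1, 1], [0, 0, 0, 0, 0, 0, 0, 0, 0, 0, 0, 0, 0, 0, 0, 0, 0, 1]], [[], [], [1, 1, 1, 1, 2, 2, 2, 2, 3, 2, 2, 2, 2, 1, 1, 1, 1], [-1, 0, 0, 0, -1, 0, 0, 0, -1, 1, 0, 0, 0, 1, 0, 0, 0, 1]]]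

def kL : List (List ℤ) := [[1], [0, 1, 1, 1, 1, 2, 2, 2, 2, 3, 2, 2, 2, 2, 1, 1, 1, 1], [0, 0, 0, 0, 0, 0, 0, 0, 0, 0, 1, 1, 1, 1, 2, 2, 2, 2, 3, 2, 2, 2, 2, 1, 1, 1, 1], [0, 0, 0, 0, 0, 0, 0, 0, 0, 0, 0, 0, 0, 0, 0, 0, 0, 0, 0, 0, 0, 0, 0, 0, 0, 0, 0, 1]]

/-- the data -/
def data : Data A 6 56 4 where
  t := tab
  e := e
  wl := enc.wl
  mat c c' := (matL.getD c []).getD c' []
  kk c := kL.getD c []
  ff := [1, 1, 1, 1, 2, 2, 2, 2, 3, 2, 2, 2, 2, 1, 1, 1, 1]
  bb c c' := (bbL.getD c []).getD c' []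
  chkM := by (delta Cfsg.Agent.H996.Eight.Cert.ChkM Cfsg.Agent.H996.Eight.Cert.ctr; simp only [Cfsg.Agent.H996.Eight.Kq.pEq_eq]; decide +kernel)
  chkK := by (delta Cfsg.Agent.H64.Dl.Sph.ChkK; simp only [Cfsg.Agent.H996.Eight.Kq.pEq_eq]; decide +kernel)
  chkF := by decide +kernel
  chkP := by (simp only [Cfsg.Agent.H996.Eight.Kq.pPos_eq]; decide +kernel)
  chkB := by (simp only [Cfsg.Agent.H996.Eight.Kq.pEq_eq]; decide +kernel)
  wo := by decide +kernel
  ws := by decide +kernel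

/-- `1*q^1*P7*P12*P14 / 1` (`Pn` the cyclotomic polynomials) -/
def c1 : Crt 4 where
  th := [-1, 0, 0, 0, 0, 1, 1, 1, 1, 2, 1, 1, 1, 1]
  nu c := ([[0, 0, 0, 0, 0, 0, 0, 0, 0, 1, 1, 0, -1, 0, 1, 1], [0, 0, 0, 0, 0, 0, 0, 0, -1, 0, 1, 1], [0, 0, 0, 0, -1, -1, 0, 1], [-1, -1, 0, 1, 0, -1, -1]] : List (List ℤ)).getD c []
  steps := [(2, [(0, [-1, -1, -1, -1, -1, -1, -1, -1, 0, 0, 0, 0, 1]), (1, [1, 1, 1, 1, 2, 2, 2, 2, 3, 2, 2, 2, 2, 1, 1, 1, 1])]), (3, [(3, [1])]), (1, [(0, [1])])]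
  dn := [0, 1, 0, 0, 0, 1, 0, 1, 0, 1, 0, 1, 0, 1, 0, 0, 0, 1]
  den := 1

theorem ok1 : c1.ok (data.t.cls data.t.o) data.bb data.kk := by (delta Cfsg.Agent.H996.Eight.Cert.Crt.ok; simp only [Cfsg.Agent.H996.Eight.Kq.pEq_eq, Cfsg.Agent.H996.Eight.Kq.pZero_eq, Cfsg.Agent.H996.Eight.Kq.pPos_eq, Cfsg.Agent.H996.Eight.Kq.chkU_eq]; decide +kernel)

theorem dvd1 : pDvd c1.den c1.dn := by decide +kernel

/-- `1*q^2*P3^2*P6^2*P9*P12*P18 / 1` (`Pn` the cyclotomic polynomials) -/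
def c2 : Crt 4 where
  th := [-1, 0, 0, 0, -1, 0, 0, 0, 0, 1]
  nu c := ([[0, 0, 0, 0, 0, 0, 0, 0, 0, 0, 0, 0, 0, 0, 1, 1, 1, 1, 2, 2, 2, 2, 3, 2, 2, 2, 2, 1, 1, 1, 1], [0, 0, 0, 0, 0, 0, 0, 0, 0, 0, 0, 0, 0, -1, 0, 0, 0, -1, 0, 0, 0, 0, 1], [0, 0, 0, 0, 0, 0, 0, 0, 1, 0, 0, 0, 0, -1, 0, 0, 0, -1], [1, 1, 1, 1, 2, 2, 2, 2, 3, 2, 2, 2, 2, 1, 1, 1, 1]] : List (List ℤ)).getD c []
  steps := [(2, [(0, [-1, -1, -1, -2, -2, -2, -2, -2, -1, -1, -1, -1]), (1, [1, 1, 1, 1, 2, 2, 2, 2, 3, 2, 2, 2, 2, 1, 1, 1, 1])]), (3, [(3, [1])]), (1, [(0, [1])])]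
  dn := [0, 0, 1, 0, 1, 0, 2, 0, 2, 0, 3, 0, 3, 0, 3, 0, 3, 0, 3, 0, 2, 0, 2, 0, 1, 0, 1]
  den := 1

theorem ok2 : c2.ok (data.t.cls data.t.o) data.bb data.kk := by (delta Cfsg.Agent.H996.Eight.Cert.Crt.ok; simp only [Cfsg.Agent.H996.Eight.Kq.pEq_eq, Cfsg.Agent.H996.Eight.Kq.pZero_eq, Cfsg.Agent.H996.Eight.Kq.pPos_eq, Cfsg.Agent.H996.Eight.Kq.chkU_eq]; decide +kernel)

theorem dvd2 : pDvd c2.den c2.dn := by decide +kernel

/-- `1*q^3*P7*P9*P14*P18 / 1` (`Pn` the cyclotomic polynomials) -/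
def c3 : Crt 4 where
  th := [-1, 0, 0, 0, -1, 0, 0, 0, -1]
  nu c := ([[0, 0, 0, 0, 0, 0, 0, 0, 0, 0, 0, 0, 0, 0, 0, 1, 1, 1, 1, 1, 1, 1, 1, 1], [0, 0, 0, 0, 0, 0, 0, 0, 0, 0, 0, 0, 0, 0, -1], [0, 0, 0, 0, 0, 0, 0, 0, 0, 1], [-1, -1, -1, -1, -1, -1, -1, -1, -1]] : List (List ℤ)).getD c []
  steps := [(2, [(0, [-1, -1, -1, -1, -2, -1, -1, -1, -1]), (2, [0, 1, 1, 1, 1, 2, 2, 2, 2, 3, 2, 2, 2, 2, 1, 1, 1, 1]), (3, [0, 0, 0, 0, 0, 0, 0, 0, 0, -1, -1, -1, -1, -1, -1, -1, -1, -1])]), (3, [(3, [1])]), (1, [(0, [1])])]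
  dn := [0, 0, 0, 1, 0, 1, 0, 1, 0, 2, 0, 2, 0, 2, 0, 3, 0, 2, 0, 2, 0, 2, 0, 1, 0, 1, 0, 1]
  den := 1

theorem ok3 : c3.ok (data.t.cls data.t.o) data.bb data.kk := by (delta Cfsg.Agent.H996.Eight.Cert.Crt.ok; simp only [Cfsg.Agent.H996.Eight.Kq.pEq_eq, Cfsg.Agent.H996.Eight.Kq.pZero_eq, Cfsg.Agent.H996.Eight.Kq.pPos_eq, Cfsg.Agent.H996.Eight.Kq.chkU_eq]; decide +kernel)

theorem dvd3 : pDvd c3.den c3.dn := by decide +kernel

end Cfsg.Agent.H996.Eight.TabE7a
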